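import Cfsg.Agent.TAB.B.Geo.Inst
import Cfsg.Agent.H723.Pair.BTrace

/-!
# Involutions of the model of the Baby Monster and the subgroup `Q` (helper1, TAB)
-/

set_option autoImplicit false
set_option maxRecDepth 100000

namespace Cfsg.Agent.TAB.B.Geo

open Cfsg Cfsg.Agent.BabyM Cfsg.Agent.BabyM.Conc Cfsg.Agent.H723.Pair.BTrace
open Subgroup (centralizer mem_centralizer_singleton_iff)

/-- the extraspecial group of order `2 ^ 23` -/
def InQ (x : BG) : Prop := (x : V ≃ₗ[ℚ] V) ∈ Inst.M.Q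

/-- an involution of type 2D in `Q` -/
noncomputable def uB : BG := ⟨W [.X2], InstMem.W_mem_G _⟩

/-- an involution of type 2C -/
noncomputable def cB : BG := ⟨W (List.replicate 7 [.p, .hi]).flatten, InstMem.W_mem_G _⟩

theorem tr_one : tr 1 = 4371 := by
  show LinearMap.trace ℚ V (LinearMap.id) = 4371
  rw [LinearMap.trace_id, finrank_eq]
  norm_num

theorem tr_zB : tr zB = 275 := by
  have h := trz
  rw [W_single] at h
  exact h

theorem tr_tB : tr tB = -493 := by
  show LinearMap.trace ℚ V (W [.Z0, .Z2, .Z4, .Z5, .Z6] : V →ₗ[ℚ] V) = -493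
  rw [W_trace (a := 1939) (b := 2432) (by decide +kernel) (by norm_num) (by norm_num) (by decide +kernel)]
  norm_num

theorem tr_uB : tr uB = 19 := by
  show LinearMap.trace ℚ V (W [.X2] : V →ₗ[ℚ] V) = 19
  rw [W_trace (a := 1171) (b := 1152) (by decide +kernel) (by norm_num) (by norm_num) (by decide +kernel)]
  norm_num

theorem tr_cB : tr cB = -53 := by
  show LinearMap.trace ℚ V (W (List.replicate 7 [.p, .hi]).flatten : V →ₗ[ℚ] V) = -53
  rw [W_trace (a := 248) (b := 301) (by decide +kernel) (by norm_num) (by norm_num) (by decide +kernel)]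
  norm_num

theorem uB_sq : uB * uB = 1 := by
  refine Subtype.ext ?_
  show W [.X2] * W [.X2] = 1
  rw [← W_append]
  exact W_eq_one (by decide +kernel) (by decide +kernel)

theorem cB_sq : cB * cB = 1 := by
  refine Subtype.ext ?_
  show W (List.replicate 7 [.p, .hi]).flatten * W (List.replicate 7 [.p, .hi]).flatten = 1
  rw [← W_append]
  exact W_eq_one (by decide +kernel) (by decide +kernel)

theorem inQ_uB : InQ uB := by
  show W [.X2] ∈ Q
  rw [W_single]
  exact E_mem_Q rfl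

theorem zB_sq : zB * zB = 1 := Subtype.ext Instance.all.grp.z_sq

theorem zB_ne : zB ≠ 1 := fun h => Instance.all.grp.z_ne (congrArg Subtype.val h)

theorem tB_sq : tB * tB = 1 := Subtype.ext Instance.all.rep.t₀_sq

theorem inQ_tB : InQ tB := Instance.all.rep.t₀_mem

theorem inQ_zB : InQ zB := Instance.all.grp.z_mem

theorem ne_one_of_tr {x : BG} (h : tr x ≠ 4371) : x ≠ 1 := fun e => h (e ▸ tr_one)

theorem tr_isConj {x y : BG} (h : IsConj x y) : tr y = tr x := by
  obtain ⟨g, rfl⟩ := isConj_iff.1 h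
  exact tr_conj x g

theorem comm_zB_iff {g : BG} : g * zB = zB * g ↔ (g : V ≃ₗ[ℚ] V) ∈ Inst.M.C :=
  ⟨fun h => Instance.all.cent_z _ g.2 (congrArg Subtype.val h), fun h => Subtype.ext (Instance.all.grp.z_comm _ h)⟩

theorem InQ.comm {x : BG} (h : InQ x) : x * zB = zB * x := comm_zB_iff.2 (Instance.all.grp.Q_le h)

theorem InQ.sq {x : BG} (h : InQ x) : x * x = 1 ∨ x * x = zB :=
  (Instance.all.grp.Q_sq _ h).imp (fun e => Subtype.ext e) fun e => Subtype.ext e

theorem InQ.conj {x g : BG} (h : InQ x) (hg : g * zB = zB * g) : InQ (g * x * g⁻¹) :=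
  Instance.all.grp.Q_normal _ (comm_zB_iff.1 hg) _ h

/-- `Q` as a subgroup -/
noncomputable def QB : Subgroup BG := Inst.M.Q.subgroupOf Inst.M.G

theorem mem_QB {x : BG} : x ∈ QB ↔ InQ x := Iff.rfl

theorem InQ.mul {x y : BG} (h : InQ x) (h' : InQ y) : InQ (x * y) := QB.mul_mem h h'

theorem InQ.inv {x : BG} (h : InQ x) : InQ x⁻¹ := QB.inv_mem h

theorem card_QB : Nat.card QB = 2 ^ 23 := by
  rw [← Instance.all.grp.Q_card]
  exact Nat.card_congr (Subgroup.subgroupOfEquivOfLe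
    (Instance.all.grp.Q_le.trans Instance.all.C_le_G)).toEquiv

theorem card_cent_zB : Nat.card (centralizer ({zB} : Set BG)) = 2 ^ 23 * 42305421312000 := by
  have h : centralizer ({zB} : Set BG) = Inst.M.C.subgroupOf Inst.M.G := by
    ext g
    rw [mem_centralizer_singleton_iff, comm_zB_iff]
    rfl
  rw [h, ← Instance.all.grp.card_C]
  exact Nat.card_congr (Subgroup.subgroupOfEquivOfLe Instance.all.C_le_G).toEquiv

theorem card_cent_tB : Nat.card (centralizer ({tB} : Set BG)) = 306129918735099415756800 :=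
  Instance.all.card_cent Instance.tr

theorem conj_tB_zB : IsConj tB (tB * zB) := by
  obtain ⟨q, hq, -, h⟩ := Instance.all.exists_q
  exact isConj_iff.2 ⟨⟨q, Instance.all.C_le_G (Instance.all.grp.Q_le hq)⟩,
    Subtype.ext (Instance.all.q₀_conj hq h)⟩

theorem card_cent_conj {G : Type*} [Group G] {x y : G} (h : IsConj x y) :
    Nat.card (centralizer ({y} : Set G)) = Nat.card (centralizer ({x} : Set G)) := by
  obtain ⟨g, rfl⟩ := isConj_iff.1 h
  refine Nat.card_congr ⟨fun a => ⟨g⁻¹ * a * g, ?_⟩, fun a => ⟨g * a * g⁻¹, ?_⟩, fun a => Subtype.ext (by group),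
    fun a => Subtype.ext (by group)⟩
  · have h1 := mem_centralizer_singleton_iff.1 a.2
    rw [mem_centralizer_singleton_iff]
    calc g⁻¹ * a * g * x = g⁻¹ * (a * (g * x * g⁻¹)) * g := by group
      _ = _ := by rw [h1]; group
  · have h1 := mem_centralizer_singleton_iff.1 a.2
    rw [mem_centralizer_singleton_iff]
    calc g * a * g⁻¹ * (g * x * g⁻¹) = g * (a * x) * g⁻¹ := by group
      _ = _ := by rw [h1]; group

/-- a normal subgroup of exponent 4 of `C(zB)` which is not central is `Q` -/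
theorem eq_QB (N : Subgroup BG) (h1 : ∀ n ∈ N, n * zB = zB * n)
    (h2 : ∀ g, g * zB = zB * g → ∀ n ∈ N, g * n * g⁻¹ ∈ N) (h3 : ∀ n ∈ N, n ^ 4 = 1) {x : BG} (hx : x ∈ N)
    (x1 : x ≠ 1) (xz : x ≠ zB) : N = QB := by
  have A := Instance.all
  have hN : N.map Inst.M.G.subtype ≤ Inst.M.C := by
    rintro _ ⟨n, hn, rfl⟩
    exact comm_zB_iff.1 (h1 n hn)
  have hn : ∀ g ∈ Inst.M.C, ∀ n ∈ N.map Inst.M.G.subtype, g * n * g⁻¹ ∈ N.map Inst.M.G.subtype := by
    rintro g hg _ ⟨n, hn, rfl⟩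
    exact ⟨_, h2 ⟨g, A.C_le_G hg⟩ (comm_zB_iff.2 hg) n hn, rfl⟩
  have hQ : N.map Inst.M.G.subtype ≤ Inst.M.Q := by
    intro y hy
    by_contra hy'
    obtain ⟨π, hπ, hk⟩ := A.grp.quot
    have : Finite GroupInst.K₀ := Nat.finite_of_card_ne_zero (by rw [A.grp.card]; norm_num)
    have : Fact (Nat.Prime 3) := ⟨Nat.prime_three⟩
    obtain ⟨k, hk3⟩ := exists_prime_orderOf_dvd_card' (G := GroupInst.K₀) 3 (by rw [A.grp.card]; norm_num)
    obtain ⟨g, rfl⟩ := hπ k
    obtain ⟨_, ⟨n, hn', rfl⟩, q, hq, e⟩ := A.grp.cover _ hN hn y hy hy' g g.2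
    have hnC := comm_zB_iff.1 (h1 n hn')
    have e1 : g = ⟨n, hnC⟩ * ⟨q, A.grp.Q_le hq⟩ := Subtype.ext e
    have e0 : ((n ^ 4 : BG) : V ≃ₗ[ℚ] V) = 1 := congrArg Subtype.val (h3 n hn')
    have e2 : (⟨n, hnC⟩ : Inst.M.C) ^ 4 = 1 := Subtype.ext e0
    have e3 : π g ^ 4 = 1 := by rw [e1, map_mul, (hk ⟨q, _⟩).2 hq, mul_one, ← map_pow, e2, map_one]
    have e4 := orderOf_dvd_of_pow_eq_one e3
    rw [hk3] at e4
    norm_num at e4
  have h4 := A.grp.eq_Q _ hQ hn x ⟨x, hx, rfl⟩ (fun e => x1 (Subtype.ext e)) fun e => xz (Subtype.ext e)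
  ext y
  constructor
  · exact fun hy => hQ ⟨y, hy, rfl⟩
  · intro hy
    have h5 : (y : V ≃ₗ[ℚ] V) ∈ N.map Inst.M.G.subtype := h4 ▸ hy
    obtain ⟨n, hn', e⟩ := h5
    exact (Subtype.ext e : n = y) ▸ hn'

end Cfsg.Agent.TAB.B.Geo
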