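import Cfsg.Agent.TAB.B.Geo.Bg

/-!
# Lifting involutions of the Baby Monster to the double cover (helper1, TAB)
-/

set_option autoImplicit false

namespace Cfsg.Agent.TAB.B.Geo

open Cfsg Cfsg.Agent.R2.M7 Cfsg.Agent.R2.M7.Geo Cfsg.Agent.R2.M7.Ark
open Subgroup (centralizer mem_centralizer_singleton_iff)

variable {G : Type*} [Group G]

theorem cm_mul {t a b : G} (ha : a * t = t * a) (hb : b * t = t * b) : a * b * t = t * (a * b) :=
  (Commute.mul_left ha hb).eq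

theorem cm_inv {t a : G} (ha : a * t = t * a) : a⁻¹ * t = t * a⁻¹ := (Commute.inv_left ha).eq

theorem cm_conj {t a g : G} (hg : g * t = t * g) (ha : a * t = t * a) : g * a * g⁻¹ * t = t * (g * a * g⁻¹) :=
  cm_mul (cm_mul hg ha) (cm_inv hg)

theorem conj_mul_t {t g : G} (hg : g * t = t * g) (a : G) : g * (a * t) * g⁻¹ = g * a * g⁻¹ * t := by
  calc g * (a * t) * g⁻¹ = g * a * (t * g⁻¹) := by group
    _ = _ := by rw [← cm_inv hg]; group

theorem Iv.cj {t a b : G} (h : Iv t a) (hc : Cj t a b) : Iv t b := by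
  have h0 := hc.comm h.comm
  obtain ⟨g, hg, rfl⟩ := hc
  refine ⟨h0, ?_, fun e => h.ne ?_, fun e => h.net ?_⟩
  · calc g * a * g⁻¹ * (g * a * g⁻¹) = g * (a * a) * g⁻¹ := by group
      _ = 1 := by rw [h.sq]; group
  · calc a = g⁻¹ * (g * a * g⁻¹) * g := by group
      _ = 1 := by rw [e]; group
  · calc a = g⁻¹ * (g * a * g⁻¹) * g := by group
      _ = t := by rw [e, cm_inv hg]; group

omit [Group G] in
theorem exists_not_mem_of_card {P : G → Prop} (s : Finset G) (h : s.card < Nat.card {a : G // P a}) :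
    ∃ a, P a ∧ a ∉ s := by
  by_contra h1
  push Not at h1
  have h2 := Nat.card_le_card_of_injective (fun a : {a : G // P a} => (⟨a.1, h1 a.1 a.2⟩ : s))
    fun a b e => Subtype.ext (congrArg (fun x : s => x.1) e)
  rw [Nat.card_eq_finsetCard] at h2
  omega

namespace Cov

variable {t α : G} {P : G → BG} (K : Cov t α P)
include K

theorem one : P 1 = 1 := (K.ker 1 (by rw [one_mul, mul_one])).2 (Or.inl rfl)

theorem map_t : P t = 1 := (K.ker t rfl).2 (Or.inr rfl)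

theorem inv {a : G} (ha : a * t = t * a) : P a⁻¹ = (P a)⁻¹ :=
  eq_inv_of_mul_eq_one_left (by rw [← K.mul _ _ (cm_inv ha) ha, inv_mul_cancel, K.one])

theorem mul_t {a : G} (ha : a * t = t * a) : P (a * t) = P a := by rw [K.mul a t ha rfl, K.map_t, mul_one]

theorem conj {a g : G} (hg : g * t = t * g) (ha : a * t = t * a) : P (g * a * g⁻¹) = P g * P a * (P g)⁻¹ := by
  rw [K.mul _ _ (cm_mul hg ha) (cm_inv hg), K.mul _ _ hg ha, K.inv hg]

theorem eq_or {a b : G} (ha : a * t = t * a) (hb : b * t = t * b) (h : P a = P b) : a = b ∨ a = b * t := by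
  have h1 : P (b⁻¹ * a) = 1 := by rw [K.mul _ _ (cm_inv hb) ha, K.inv hb, h, inv_mul_cancel]
  rcases (K.ker _ (cm_mul (cm_inv hb) ha)).1 h1 with h2 | h2
  · exact Or.inl (inv_mul_eq_one.1 h2).symm
  · exact Or.inr (inv_mul_eq_iff_eq_mul.1 h2)

theorem isConj {a b : G} (ha : a * t = t * a) (h : Cj t a b) : IsConj (P a) (P b) := by
  obtain ⟨g, hg, rfl⟩ := h
  exact isConj_iff.2 ⟨P g, (K.conj hg ha).symm⟩

/-- a conjugate of `P a` is the image of a conjugate of `a` -/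
theorem exists_cj {a : G} (ha : a * t = t * a) {x : BG} (h : IsConj (P a) x) : ∃ b, Cj t a b ∧ P b = x := by
  obtain ⟨k, rfl⟩ := isConj_iff.1 h
  obtain ⟨g, hg, rfl⟩ := K.surj k
  exact ⟨_, ⟨g, hg, rfl⟩, K.conj hg ha⟩

theorem iv_ne {a : G} (ha : Iv t a) : P a ≠ 1 := fun h => ((K.ker a ha.comm).1 h).elim ha.ne ha.net

theorem iv_sq {a : G} (ha : Iv t a) : P a * P a = 1 := by rw [← K.mul _ _ ha.comm ha.comm, ha.sq, K.one]

theorem iv_of {a : G} (ha : a * t = t * a) (h1 : a * a = 1) (h2 : P a ≠ 1) : Iv t a :=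
  ⟨ha, h1, fun e => h2 (e ▸ K.one), fun e => h2 (e ▸ K.map_t)⟩

/-- the involutions whose lifts have order 4 -/
theorem card_cent_le {b : G} (hb : b * b = t) (ht : t ≠ 1) :
    Nat.card (centralizer ({P b} : Set BG)) ≤ Nat.card (centralizer ({b} : Set G)) ∨
      Nat.card (centralizer ({b} : Set G)) = 0 := by
  classical
  rcases finite_or_infinite (centralizer ({b} : Set G)) with hf | hf
  swap
  · exact Or.inr Nat.card_eq_zero_of_infinite
  left
  have hbt : b * t = t * b := by rw [← hb, mul_assoc]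
  choose s hs hP using K.surj
  have hc : ∀ x : BG, x * P b = P b * x → s x * b * (s x)⁻¹ = b ∨ s x * b * (s x)⁻¹ = b * t := fun x hx =>
    K.eq_or (cm_conj (hs x) hbt) hbt (by rw [K.conj (hs x) hbt, hP, hx, mul_inv_cancel_right])
  by_cases h0 : ∃ k : BG, k * P b = P b * k ∧ s k * b * (s k)⁻¹ ≠ b
  · obtain ⟨k, hk, hk'⟩ := h0
    have m : ∀ x : BG, x * P b = P b * x → s x * b * (s x)⁻¹ ≠ b → s (k⁻¹ * x) * t ∈ centralizer ({b} : Set G) := by
      intro x hx hx'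
      have e1 : (s k)⁻¹ * s x * b = b * ((s k)⁻¹ * s x) := by
        have e2 := ((hc x hx).resolve_left hx').trans ((hc k hk).resolve_left hk').symm
        calc (s k)⁻¹ * s x * b = (s k)⁻¹ * (s x * b * (s x)⁻¹) * s x := by group
          _ = _ := by rw [e2]; group
      rw [mem_centralizer_singleton_iff]
      have c := cm_mul (cm_inv (hs k)) (hs x)
      rcases K.eq_or (hs (k⁻¹ * x)) c (by rw [K.mul _ _ (cm_inv (hs k)) (hs x), K.inv (hs k), hP, hP, hP]) with e | e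
      · rw [e]
        exact cm_mul e1 hbt.symm
      · rw [e]
        exact cm_mul (cm_mul e1 hbt.symm) hbt.symm
    refine Nat.card_le_card_of_injective (fun x : centralizer ({P b} : Set BG) =>
      if h : s x * b * (s x)⁻¹ = b then (⟨s x, mem_centralizer_singleton_iff.2 (mul_inv_eq_iff_eq_mul.1 h)⟩ :
        centralizer ({b} : Set G))
      else ⟨_, m x (mem_centralizer_singleton_iff.1 x.2) h⟩) fun x y e => ?_
    have inj : ∀ x y, s x = s y → x = y := fun x y e => by rw [← hP x, e, hP]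
    have ne : ∀ x y, s x ≠ s y * t := fun x y e => by
      have e1 : x = y := by rw [← hP x, e, K.mul_t (hs y), hP]
      rw [e1] at e
      exact ht (mul_eq_left.1 e.symm)
    by_cases h1 : s x * b * (s x)⁻¹ = b <;> by_cases h2 : s y * b * (s y)⁻¹ = b
    · simp only [dif_pos h1, dif_pos h2] at e
      exact Subtype.ext (inj _ _ (congrArg Subtype.val e))
    · simp only [dif_pos h1, dif_neg h2] at e
      exact absurd (congrArg Subtype.val e) (ne _ _)
    · simp only [dif_neg h1, dif_pos h2] at e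
      exact absurd (congrArg Subtype.val e).symm (ne _ _)
    · simp only [dif_neg h1, dif_neg h2] at e
      exact Subtype.ext (mul_left_cancel (inj _ _ (mul_right_cancel (congrArg Subtype.val e))))
  · push Not at h0
    exact Nat.card_le_card_of_injective (fun x : centralizer ({P b} : Set BG) =>
      (⟨s x, mem_centralizer_singleton_iff.2 (mul_inv_eq_iff_eq_mul.1
        (h0 x (mem_centralizer_singleton_iff.1 x.2)))⟩ : centralizer ({b} : Set G)))
      fun x y e => Subtype.ext (by rw [← hP x, ← hP y]; exact congrArg (fun a : centralizer ({b} : Set G) => P a) e)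

end Cov

section

variable [Finite G] {Γ : Geo G} {t α β δ : G} (M : MF Γ t α β δ) {P : G → BG} (K : Cov t α P)
include M

theorem MF.exists_iv (x y : ZMod 2) : ∃ w, Iv t w ∧ Γ.kap w = x ∧ Γ.kap (w * t) = y := by
  obtain ⟨O, hO, ht, hg⟩ := M.exists_ark_t
  obtain ⟨w, -, h⟩ := M.exists_type hO ht hg x y
  exact ⟨w, h⟩

theorem MF.iv_α : Iv t α := by
  obtain ⟨w, hw, h1, h2⟩ := M.exists_iv 1 1
  exact hw.cj (M.cj_α hw h1 h2).symm

theorem MF.iv_β : Iv t β := by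
  obtain ⟨w, hw, h1, h2⟩ := M.exists_iv 0 1
  exact hw.cj (M.cj_β hw h1 h2).symm

theorem MF.iv_δ : Iv t δ := by
  obtain ⟨w, hw, h1, h2⟩ := M.exists_iv 0 0
  exact hw.cj (M.cj_δ hw h1 h2).symm

/-- an ark through `t` and a collinear point -/
theorem MF.exists_ark_β {v : G} (hv : Iv t v) (h1 : Γ.kap v = 0) (h2 : Γ.kap (v * t) = 1) :
    ∃ O ∈ Γ.Ark, t ∈ O ∧ v ∈ O := by
  obtain ⟨O, hO, ht, hg⟩ := M.exists_ark_t
  obtain ⟨w, hwO, hw, h3, h4⟩ := M.exists_type hO ht hg 0 1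
  obtain ⟨g, hgt, rfl⟩ := (M.cj_β hw h3 h4).symm.trans (M.cj_β hv h1 h2)
  refine ⟨cj g O, M.A.conj O hO g, ?_, conj_mem_cj.2 hwO⟩
  have h5 := conj_mem_cj (g := g).2 ht
  rwa [hgt, mul_inv_cancel_right] at h5

include K

theorem MF.card_four {b : G} (hb : b * b = t) : Nat.card (centralizer ({P b} : Set BG)) ≤ 26489012826931200 := by
  rcases K.card_cent_le hb M.t_ne with h | h
  · exact h.trans (K.four b hb)
  · exact absurd h Nat.card_pos.ne'

/-- an involution with a large centraliser lifts to an involution -/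
theorem MF.sq_of_card {a : G} (ha : a * t = t * a) (h1 : P a * P a = 1)
    (h2 : 26489012826931200 < Nat.card (centralizer ({P a} : Set BG))) : a * a = 1 := by
  rw [← K.mul _ _ ha ha] at h1
  exact ((K.ker _ (cm_mul ha ha)).1 h1).resolve_right fun e => absurd (M.card_four K e) (by omega)

theorem MF.conj_tB {w : G} (hw : Iv t w) (h1 : Γ.kap w = 1) (h2 : Γ.kap (w * t) = 1) : IsConj tB (P w) :=
  K.α_conj.trans (K.isConj M.iv_α.comm (M.cj_α hw h1 h2))

/-- `P β` is conjugate to `zB` -/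
theorem MF.β_conj : IsConj zB (P β) := by
  obtain ⟨s, hs, e⟩ := K.exists_cj M.iv_α.comm K.α_conj.symm
  obtain ⟨s', hs', e'⟩ := K.exists_cj M.iv_α.comm (K.α_conj.symm.trans conj_tB_zB)
  have i := M.iv_α.cj hs
  have i' := M.iv_α.cj hs'
  have c := cm_mul i.comm i'.comm
  have e1 : P (s * s') = zB := by rw [K.mul _ _ i.comm i'.comm, e, e', ← mul_assoc, tB_sq, one_mul]
  have h1 : s * s' * (s * s') = 1 := M.sq_of_card K c (by rw [e1, zB_sq]) (by rw [e1, card_cent_zB]; norm_num)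
  have h2 : s * s' = s' * s := by
    calc s * s' = (s * s')⁻¹ := eq_inv_of_mul_eq_one_left h1
      _ = s' * s := by rw [mul_inv_rev, inv_eq_of_mul_eq_one_left i.sq, inv_eq_of_mul_eq_one_left i'.sq]
  have iv := K.iv_of c h1 (by rw [e1]; exact zB_ne)
  rcases M.cls' iv with h | h | h | h
  · have h3 := tr_isConj (M.conj_tB K iv h.1 h.2.1)
    rw [e1, tr_zB, tr_tB] at h3
    norm_num at h3
  · have h3 := K.isConj (M.iv_mul M.iv_β).comm h.2.2
    rw [e1, K.mul_t M.iv_β.comm] at h3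
    exact h3.symm
  · have h3 := K.isConj M.iv_β.comm h.2.2
    rw [e1] at h3
    exact h3.symm
  · exact absurd h.2.2 (M.aa s s' hs hs' h2)

theorem MF.conj_zB {w : G} (hw : Iv t w) (h : Γ.kap (w * t) = Γ.kap w + 1) : IsConj zB (P w) := by
  rcases z2 (Γ.kap w) with h1 | h1
  · exact (M.β_conj K).trans (K.isConj M.iv_β.comm (M.cj_β hw h1 (by rw [h, h1, zero_add])))
  · rw [← K.mul_t hw.comm]
    exact (M.β_conj K).trans (K.isConj M.iv_β.comm (M.cj_β (M.iv_mul hw) (by rw [h, h1]; rfl) (by rw [M.mtt, h1])))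

/-- the point over a conjugate of `zB` -/
theorem MF.exists_pt {x : BG} (hx : IsConj zB x) : ∃ w, Iv t w ∧ Γ.kap w = 0 ∧ Γ.kap (w * t) = 1 ∧ P w = x := by
  obtain ⟨w, hw, e⟩ := K.exists_cj M.iv_β.comm ((M.β_conj K).symm.trans hx)
  exact ⟨w, M.iv_β.cj hw, by rw [M.kap_cj hw, kap_pt M.kβ], by rw [M.kap_cj hw.mul_t, M.kap_βt], e⟩

omit [Finite G] M in
theorem Cov.pt_unique {v w : G} (hv : v * t = t * v) (hw : w * t = t * w) (h1 : Γ.kap v = 0) (h2 : Γ.kap (w * t) = 1)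
    (e : P v = P w) : v = w :=
  (K.eq_or hv hw e).resolve_right fun h => by
    rw [h, h2] at h1
    exact one_ne_zero h1

/-- the image of `Q_v ∩ C(t)` -/
theorem MF.inQ_iff {v : G} (hv : Iv t v) (h1 : Γ.kap v = 0) (h2 : Γ.kap (v * t) = 1) (e : P v = zB) {a : G}
    (ha : a * t = t * a) : InQ (P a) ↔ a ∈ Γ.QQ v := by
  classical
  have hp := pt_of_kap h1 hv.ne
  have ht := M.t_mem_QQ hv h1 h2
  let N : Subgroup BG :=
    { carrier := {x | ∃ a ∈ Γ.QQ v, a * t = t * a ∧ P a = x}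
      one_mem' := ⟨1, one_mem _, by rw [one_mul, mul_one], K.one⟩
      mul_mem' := by
        rintro _ _ ⟨a, h3, h4, rfl⟩ ⟨b, h5, h6, rfl⟩
        exact ⟨a * b, mul_mem h3 h5, cm_mul h4 h6, K.mul a b h4 h6⟩
      inv_mem' := by
        rintro _ ⟨a, h3, h4, rfl⟩
        exact ⟨a⁻¹, inv_mem h3, cm_inv h4, K.inv h4⟩ }
  obtain ⟨O, hO, htO, hvO⟩ := M.exists_ark_β hv h1 h2
  have q := qg_ark M.A hO
  have h3 := q.card_pol hvO hv.ne 0
  obtain ⟨b, ⟨hb, hb'⟩, hb''⟩ := exists_not_mem_of_card (P := fun a => a ∈ O ∧ pol Γ.kap a v = 0) {1, t, v, v * t}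
    (lt_of_le_of_lt Finset.card_le_four (by rw [M.A.card O hO] at h3; omega))
  simp only [Finset.mem_insert, Finset.mem_singleton, not_or] at hb''
  have hbt := q.comm b hb t htO
  have hN : N = QB := by
    refine eq_QB N ?_ ?_ ?_ (x := P b) ⟨b, (M.A.bet_iff O hO v hvO hp b hb).2 hb', hbt, rfl⟩ ?_ ?_
    · rintro _ ⟨a, h5, h6, rfl⟩
      rw [← e, ← K.mul _ _ h6 hv.comm, ← K.mul _ _ hv.comm h6, M.Ba.QQ_comm v hp a h5]
    · rintro g hg _ ⟨a, h5, h6, rfl⟩
      obtain ⟨k, hk, rfl⟩ := K.surj g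
      have h7 : k * v * k⁻¹ = v := K.pt_unique (Γ := Γ) (cm_conj hk hv.comm) hv.comm (by rw [kap_conj M.Ba, h1]) h2
        (by rw [K.conj hk hv.comm, e, hg, mul_inv_cancel_right])
      exact ⟨_, h7 ▸ M.Ba.QQ_conj v hp k a h5, cm_conj hk h6, K.conj hk h6⟩
    · rintro _ ⟨a, h5, h6, rfl⟩
      rw [show (4 : ℕ) = 2 + 2 from rfl, pow_add, pow_two, ← K.mul _ _ h6 h6]
      rcases M.qsq v hp a h5 with h7 | h7
      · rw [h7, K.one, mul_one]
      · rw [h7, e, zB_sq]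
    · exact fun h5 => ((K.ker b hbt).1 h5).elim hb''.1 hb''.2.1
    · exact fun h5 => (K.eq_or hbt hv.comm (h5.trans e.symm)).elim hb''.2.2.1 hb''.2.2.2
  rw [← mem_QB, ← hN]
  constructor
  · rintro ⟨a', h5, h6, h7⟩
    rcases K.eq_or ha h6 h7.symm with h8 | h8
    · exact h8 ▸ h5
    · exact h8 ▸ mul_mem h5 ht
  · exact fun h5 => ⟨a, h5, ha, rfl⟩

/-- the same for every point over the class of `zB` -/
theorem MF.inQ_conj_iff {w : G} (hw : Iv t w) (h1 : Γ.kap w = 0) {h : BG} (e : h * zB * h⁻¹ = P w) {a : G}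
    (ha : a * t = t * a) : InQ (h⁻¹ * P a * h) ↔ a ∈ Γ.QQ w := by
  obtain ⟨v, hv, h3, h4, e'⟩ := M.exists_pt K (IsConj.refl zB)
  obtain ⟨k, hk, rfl⟩ := K.surj h
  have h5 : w = k * v * k⁻¹ := K.pt_unique (Γ := Γ) hw.comm (cm_conj hk hv.comm) h1
    (by rw [← conj_mul_t hk, kap_conj M.Ba, h4]) (by rw [K.conj hk hv.comm, e', e])
  have h6 : (P k)⁻¹ * P a * P k = P (k⁻¹ * a * k⁻¹⁻¹) := by rw [K.conj (cm_inv hk) ha, K.inv hk, inv_inv]
  rw [h6, M.inQ_iff K hv h3 h4 e' (cm_conj (cm_inv hk) ha), h5]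
  have hp := pt_of_kap h3 hv.ne
  constructor
  · intro h7
    have h8 := M.Ba.QQ_conj v hp k _ h7
    rwa [show k * (k⁻¹ * a * k⁻¹⁻¹) * k⁻¹ = a by group] at h8
  · intro h7
    have h8 := M.Ba.QQ_conj _ (M.Ba.pt_conj v hp k) k⁻¹ _ h7
    rwa [show k⁻¹ * (k * v * k⁻¹) * k⁻¹⁻¹ = v by group] at h8

/-- an involution of `Q` lifts to an involution -/
theorem MF.iv_of_inQ {a : G} (ha : a * t = t * a) (hQ : InQ (P a)) (h1 : P a * P a = 1) (h2 : P a ≠ 1) : Iv t a := by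
  obtain ⟨v, hv, h3, h4, e⟩ := M.exists_pt K (IsConj.refl zB)
  refine K.iv_of ha ((M.qsq v (pt_of_kap h3 hv.ne) a ((M.inQ_iff K hv h3 h4 e ha).1 hQ)).resolve_right fun h5 => ?_) h2
  rw [← K.mul _ _ ha ha, h5, e] at h1
  exact zB_ne h1

theorem MF.kap_of_tr {w : G} (hw : Iv t w) (h1 : tr (P w) ≠ -493) (h2 : tr (P w) ≠ 275) :
    Γ.kap w = 0 ∧ Γ.kap (w * t) = 0 := by
  rcases M.cls' hw with h | h | h | h
  · exact absurd ((tr_isConj (M.conj_tB K hw h.1 h.2.1)).trans tr_tB) h1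
  · exact absurd ((tr_isConj (M.conj_zB K hw (by rw [h.1, h.2.1]; rfl))).trans tr_zB) h2
  · exact absurd ((tr_isConj (M.conj_zB K hw (by rw [h.1, h.2.1]; rfl))).trans tr_zB) h2
  · exact ⟨h.1, h.2.1⟩

theorem MF.conj_uB {w : G} (hw : Iv t w) (h1 : Γ.kap w = 0) (h2 : Γ.kap (w * t) = 0) : IsConj uB (P w) := by
  obtain ⟨a, ha, e⟩ := K.surj uB
  have i := M.iv_of_inQ K ha (e ▸ inQ_uB) (by rw [e, uB_sq]) (ne_one_of_tr (by rw [e, tr_uB]; norm_num))
  obtain ⟨h3, h4⟩ := M.kap_of_tr K i (by rw [e, tr_uB]; norm_num) (by rw [e, tr_uB]; norm_num)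
  rw [← e]
  exact K.isConj ha ((M.cj_δ i h3 h4).symm.trans (M.cj_δ hw h1 h2))

/-- the images of the involutions -/
theorem MF.conj_or {w : G} (hw : Iv t w) : IsConj tB (P w) ∨ IsConj zB (P w) ∨ IsConj uB (P w) := by
  rcases M.cls' hw with h | h | h | h
  · exact Or.inl (M.conj_tB K hw h.1 h.2.1)
  · exact Or.inr (Or.inl (M.conj_zB K hw (by rw [h.1, h.2.1]; rfl)))
  · exact Or.inr (Or.inl (M.conj_zB K hw (by rw [h.1, h.2.1]; rfl)))
  · exact Or.inr (Or.inr (M.conj_uB K hw h.1 h.2.1))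

end

/-- **The involutions of `BG`.** -/
theorem inv_cases {x : BG} (h : x * x = 1) : x = 1 ∨ IsConj tB x ∨ IsConj zB x ∨ IsConj uB x ∨
    Nat.card (centralizer ({x} : Set BG)) ≤ 26489012826931200 := by
  obtain ⟨G, _, _, Γ, t, α, β, δ, P, M, K⟩ := exists_cov
  obtain ⟨a, ha, rfl⟩ := K.surj x
  by_cases h1 : P a = 1
  · exact Or.inl h1
  rw [← K.mul _ _ ha ha] at h
  rcases (K.ker _ (cm_mul ha ha)).1 h with h2 | h2
  · rcases M.conj_or K (K.iv_of ha h2 h1) with h3 | h3 | h3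
    · exact Or.inr (Or.inl h3)
    · exact Or.inr (Or.inr (Or.inl h3))
    · exact Or.inr (Or.inr (Or.inr (Or.inl h3)))
  · exact Or.inr (Or.inr (Or.inr (Or.inr (M.card_four K h2))))

/-- **The involutions of `Q`.** -/
theorem InQ.inv_cases {x : BG} (hQ : InQ x) (h : x * x = 1) : x = 1 ∨ IsConj tB x ∨ IsConj zB x ∨ IsConj uB x := by
  obtain ⟨G, _, _, Γ, t, α, β, δ, P, M, K⟩ := exists_cov
  obtain ⟨a, ha, rfl⟩ := K.surj x
  by_cases h1 : P a = 1
  · exact Or.inl h1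
  exact Or.inr (M.conj_or K (M.iv_of_inQ K ha hQ h h1))

theorem InQ.conj_tB {x : BG} (hQ : InQ x) (h : x * x = 1) (h1 : tr x = -493) : IsConj tB x := by
  rcases hQ.inv_cases h with h2 | h2 | h2 | h2
  · rw [h2, tr_one] at h1; norm_num at h1
  · exact h2
  · rw [tr_isConj h2, tr_zB] at h1; norm_num at h1
  · rw [tr_isConj h2, tr_uB] at h1; norm_num at h1

theorem InQ.conj_zB {x : BG} (hQ : InQ x) (h : x * x = 1) (h1 : tr x = 275) : IsConj zB x := by
  rcases hQ.inv_cases h with h2 | h2 | h2 | h2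
  · rw [h2, tr_one] at h1; norm_num at h1
  · rw [tr_isConj h2, tr_tB] at h1; norm_num at h1
  · exact h2
  · rw [tr_isConj h2, tr_uB] at h1; norm_num at h1

theorem InQ.conj_uB {x : BG} (hQ : InQ x) (h : x * x = 1) (h1 : tr x = 19) : IsConj uB x := by
  rcases hQ.inv_cases h with h2 | h2 | h2 | h2
  · rw [h2, tr_one] at h1; norm_num at h1
  · rw [tr_isConj h2, tr_tB] at h1; norm_num at h1
  · rw [tr_isConj h2, tr_zB] at h1; norm_num at h1
  · exact h2

theorem orderOf_two {x : BG} (h : x * x = 1) (h1 : tr x ≠ 4371) : orderOf x = 2 :=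
  orderOf_eq_prime (by rw [pow_two, h]) (ne_one_of_tr h1)

theorem boxC_1A : BoxCB 0 :=
  Eng.BoxC.of_le (x := 1) ((tyB_iff sg_1A _).2 ⟨orderOf_one, by simp⟩) (Subgroup.card_le_card_group _)
    (by rw [cnt_1A, one_mul])

theorem boxC_2A : BoxCB 1 :=
  Eng.BoxC.of_le (x := tB) ((tyB_iff sg_2A _).2 ⟨orderOf_two tB_sq (by rw [tr_tB]; norm_num), by simp [tr_tB]⟩)
    card_cent_tB.le (by rw [cnt_2A, card_B])

theorem boxC_2B : BoxCB 2 :=
  Eng.BoxC.of_le (x := zB) ((tyB_iff sg_2B _).2 ⟨orderOf_two zB_sq (by rw [tr_zB]; norm_num), by simp [tr_zB]⟩)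
    card_cent_zB.le (by rw [cnt_2B, card_B]; norm_num)

theorem card_cent_cB : Nat.card (centralizer ({cB} : Set BG)) ≤ 26489012826931200 := by
  rcases inv_cases cB_sq with h | h | h | h | h
  · exact absurd h (ne_one_of_tr (by rw [tr_cB]; norm_num))
  · have h1 := tr_isConj h
    rw [tr_cB, tr_tB] at h1; norm_num at h1
  · have h1 := tr_isConj h
    rw [tr_cB, tr_zB] at h1; norm_num at h1
  · have h1 := tr_isConj h
    rw [tr_cB, tr_uB] at h1; norm_num at h1
  · exact h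

theorem boxC_2C : BoxCB 3 :=
  Eng.BoxC.of_le (x := cB) ((tyB_iff sg_2C _).2 ⟨orderOf_two cB_sq (by rw [tr_cB]; norm_num), by simp [tr_cB]⟩)
    card_cent_cB (by rw [cnt_2C, card_B])

end Cfsg.Agent.TAB.B.Geo
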