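import Cfsg.Agent.TAB.B.Geo.Cov

/-!
# The orthogonal geometry of an involution of type 2D of the Baby Monster (helper1, TAB)

`geo` : for an involution `u ∈ Q` of trace 19 there is a subgroup `V` of order 256 with `G8 u V`.
-/

set_option autoImplicit false

namespace Cfsg.Agent.TAB.B.Geo

open Cfsg Cfsg.Agent.R2.M7 Cfsg.Agent.R2.M7.Geo Cfsg.Agent.R2.M7.Ark
open Subgroup (centralizer mem_centralizer_singleton_iff)

/-- the quadratic form -/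
noncomputable def qv (u x : BG) : ZMod 2 := if tr (x * u) = 19 then 0 else 1

/-- the polar form `qv (x * y) + qv x + qv y` -/
noncomputable def bv (u x y : BG) : ZMod 2 := pol (qv u) x y

theorem bv_def (u x y : BG) : bv u x y = qv u (x * y) + qv u x + qv u y := rfl

/-- `y` is a conjugate of `zB` whose extraspecial group contains `u` -/
def XU (u y : BG) : Prop := ∃ h, h * zB * h⁻¹ = y ∧ InQ (h⁻¹ * u * h)

/-- the facts on `V = 2 ^ 8` -/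
structure G8 (u : BG) (V : Subgroup BG) : Prop where
  card : Nat.card V = 256
  qg : QG V (qv u)
  gauss : gs V (qv u) = 16
  z_mem : zB ∈ V
  q_z : qv u zB = 0
  comm_u : ∀ x ∈ V, x * u = u * x
  norm : ∀ g, g * u = u * g → ∀ x ∈ V, g * x * g⁻¹ ∈ V
  conj_z : ∀ x ∈ V, x ≠ 1 → IsConj zB x
  conj_u : ∀ x ∈ V, qv u x = 0 → IsConj uB (x * u)
  conj_t : ∀ x ∈ V, qv u x = 1 → IsConj tB (x * u)
  inQ : ∀ x ∈ V, (InQ x ↔ bv u x zB = 0)
  xu : ∀ y, XU u y ↔ y ∈ V ∧ y ≠ 1 ∧ qv u y = 0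
  mem : ∀ x, IsConj zB x → x * u = u * x → IsConj tB (x * u) → x ∈ V
  /-- the extraspecial group of a singular point -/
  inQ_conj : ∀ h, h * zB * h⁻¹ ∈ V → qv u (h * zB * h⁻¹) = 0 → ∀ x ∈ V,
    (InQ (h⁻¹ * x * h) ↔ bv u x (h * zB * h⁻¹) = 0)

/-- **The geometry.** -/
theorem geo {u : BG} (hu : u * u = 1) (hQ : InQ u) (h19 : tr u = 19) : ∃ V : Subgroup BG, G8 u V := by
  obtain ⟨G, _, _, Γ, t, α, β, δ, P, M, K⟩ := exists_cov
  obtain ⟨a, hat, rfl⟩ := K.surj u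
  have ia := M.iv_of_inQ K hat hQ hu (ne_one_of_tr (by rw [h19]; norm_num))
  obtain ⟨k1, k2⟩ := M.kap_of_tr K ia (by rw [h19]; norm_num) (by rw [h19]; norm_num)
  obtain ⟨O, hO, htO, haO, hg⟩ := M.exists_ark ia k1 k2
  have q := qg_ark M.A hO
  have pa := pt_of_kap k1 ia.ne
  have pat := pt_of_kap k2 (M.iv_mul ia).ne
  have hp : pol Γ.kap a t = 1 := by
    unfold pol
    rw [k2, k1, M.kt]
    rfl
  have q0 := perp2_qg (h := q) (ht := htO) (hu := haO) hp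
  have c0 := card_perp2 (h := q) (ht := htO) (hu := haO) hp
  have g0 := gs_perp2 (h := q) (ht := htO) (hu := haO)
  rw [hg, M.kt, k1, ← hat, k2, sn_zero, sn_one] at g0
  rw [M.A.card O hO] at c0
  have m0 : ∀ x, x ∈ perp2 q htO haO ↔ x ∈ O ∧ pol Γ.kap x t = 0 ∧ pol Γ.kap x a = 0 := fun x => mem_perp2
  generalize perp2 q htO haO = V₀ at q0 c0 g0 m0
  have ct : ∀ x ∈ V₀, x * t = t * x := fun x hx => q.comm x ((m0 x).1 hx).1 t htO
  have nt : t ∉ V₀ := fun h => by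
    have h1 := ((m0 t).1 h).2.2
    rw [q.pol_comm htO haO, hp] at h1
    exact one_ne_zero h1
  have inj : ∀ x ∈ V₀, ∀ y ∈ V₀, P x = P y → x = y := fun x hx y hy e =>
    (K.eq_or (ct x hx) (ct y hy) e).resolve_right fun h => nt (by
      have h1 := V₀.mul_mem (V₀.inv_mem hy) hx
      rwa [h, inv_mul_cancel_left] at h1)
  have iv : ∀ x ∈ V₀, x ≠ 1 → Iv t x := fun x hx h1 => ⟨ct x hx, q0.sq x hx, h1, fun e => nt (e ▸ hx)⟩
  have kt : ∀ x ∈ V₀, Γ.kap (x * t) = Γ.kap x + 1 := fun x hx => by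
    rw [M.kap_mul_t, ((m0 x).1 hx).2.1, add_zero]
  have pxa : ∀ x ∈ V₀, pol Γ.kap (x * a) t = 1 := fun x hx => by
    rw [q.bil x ((m0 x).1 hx).1 a haO t htO, ((m0 x).1 hx).2.1, hp, zero_add]
  have iva : ∀ x ∈ V₀, Iv t (x * a) := fun x hx => by
    have h1 := O.mul_mem ((m0 x).1 hx).1 haO
    refine ⟨q.comm _ h1 t htO, q.sq _ h1, fun e => ?_, fun e => ?_⟩
    · have h2 := pxa x hx
      rw [e, q.pol_one htO] at h2
      exact zero_ne_one h2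
    · have h2 := pxa x hx
      rw [e, q.pol_self htO] at h2
      exact zero_ne_one h2
  have ka : ∀ x ∈ V₀, Γ.kap (x * a) = Γ.kap x := fun x hx => by
    rw [q_mul Γ.kap x a, k1, ((m0 x).1 hx).2.2, add_zero, add_zero]
  have kat : ∀ x ∈ V₀, Γ.kap (x * a * t) = Γ.kap x := fun x hx => by
    rw [M.kap_mul_t, ka x hx, pxa x hx, add_assoc, z2_add, add_zero]
  have cu : ∀ x ∈ V₀, Γ.kap x = 0 → IsConj uB (P x * P a) := fun x hx h => by
    rw [← K.mul _ _ (ct x hx) hat]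
    exact M.conj_uB K (iva x hx) (by rw [ka x hx, h]) (by rw [kat x hx, h])
  have cT : ∀ x ∈ V₀, Γ.kap x = 1 → IsConj tB (P x * P a) := fun x hx h => by
    rw [← K.mul _ _ (ct x hx) hat]
    exact M.conj_tB K (iva x hx) (by rw [ka x hx, h]) (by rw [kat x hx, h])
  have hq : ∀ x ∈ V₀, qv (P a) (P x) = Γ.kap x := fun x hx => by
    unfold qv
    rcases z2 (Γ.kap x) with h | h
    · rw [tr_isConj (cu x hx h), tr_uB, if_pos rfl, h]
    · rw [tr_isConj (cT x hx h), tr_tB, if_neg (by norm_num), h]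
  have hb : ∀ x ∈ V₀, ∀ y ∈ V₀, pol (qv (P a)) (P x) (P y) = pol Γ.kap x y := fun x hx y hy => by
    unfold pol
    rw [← K.mul _ _ (ct x hx) (ct y hy), hq _ (V₀.mul_mem hx hy), hq x hx, hq y hy]
  let V : Subgroup BG :=
    { carrier := {y | ∃ x ∈ V₀, P x = y}
      one_mem' := ⟨1, one_mem _, K.one⟩
      mul_mem' := by
        rintro _ _ ⟨x, hx, rfl⟩ ⟨y, hy, rfl⟩
        exact ⟨x * y, mul_mem hx hy, K.mul x y (ct x hx) (ct y hy)⟩
      inv_mem' := by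
        rintro _ ⟨x, hx, rfl⟩
        exact ⟨x⁻¹, inv_mem hx, K.inv (ct x hx)⟩ }
  have mV : ∀ y, y ∈ V ↔ ∃ x ∈ V₀, P x = y := fun y => Iff.rfl
  -- the points collinear with `t` and `a`
  have ptm : ∀ w, Iv t w → Γ.kap w = 0 → Γ.kap (w * t) = 1 → a ∈ Γ.QQ w → w ∈ V₀ := fun w hw h1 h2 h3 => by
    have h4 := pt_of_kap h1 hw.ne
    have h5 := M.t_mem_QQ hw h1 h2
    have h6 := M.mem_ark_pt hO htO haO pa pat h4 h5 h3
    exact (m0 w).2 ⟨h6, by rw [q.pol_comm h6 htO]; exact (M.A.bet_iff O hO w h6 h4 t htO).1 h5,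
      by rw [q.pol_comm h6 haO]; exact (M.A.bet_iff O hO w h6 h4 a haO).1 h3⟩
  have iq : ∀ h, h * zB * h⁻¹ ∈ V → qv (P a) (h * zB * h⁻¹) = 0 → ∀ x ∈ V,
      (InQ (h⁻¹ * x * h) ↔ bv (P a) x (h * zB * h⁻¹) = 0) := by
    rintro h ⟨w, hw, e⟩ h1 _ ⟨x, hx, rfl⟩
    have w1 : w ≠ 1 := fun e' => zB_ne (by
      rw [e', K.one] at e
      exact conj_eq_one_iff.1 e.symm)
    rw [← e, hq w hw] at h1
    rw [M.inQ_conj_iff K (iv w hw w1) h1 e.symm (ct x hx), ← e, bv, hb x hx w hw]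
    exact M.A.bet_iff O hO w ((m0 w).1 hw).1 (pt_of_kap h1 w1) x ((m0 x).1 hx).1
  obtain ⟨v, hv, v1, v2, ev⟩ := M.exists_pt K (IsConj.refl zB)
  have hv0 := ptm v hv v1 v2 ((M.inQ_iff K hv v1 v2 ev hat).1 hQ)
  refine ⟨V, ?_, ⟨?_, ?_, ?_, ?_⟩, ?_, ⟨v, hv0, ev⟩, by rw [← ev, hq v hv0, v1],
    ?_, ?_, ?_, ?_, ?_, ?_, ?_, ?_, iq⟩
  · have h1 : Nat.card V₀ = Nat.card V := Nat.card_congr (Equiv.ofBijective (fun x => ⟨P x, x, x.2, rfl⟩)
      ⟨fun x y e => Subtype.ext (inj _ x.2 _ y.2 (congrArg Subtype.val e)),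
        fun ⟨_, x, hx, e⟩ => ⟨⟨x, hx⟩, Subtype.ext e⟩⟩)
    omega
  · rintro _ ⟨x, hx, rfl⟩ _ ⟨y, hy, rfl⟩
    rw [← K.mul _ _ (ct x hx) (ct y hy), ← K.mul _ _ (ct y hy) (ct x hx), q0.comm x hx y hy]
  · rintro _ ⟨x, hx, rfl⟩
    rw [← K.mul _ _ (ct x hx) (ct x hx), q0.sq x hx, K.one]
  · rintro _ ⟨x, hx, rfl⟩ _ ⟨y, hy, rfl⟩ _ ⟨z, hz, rfl⟩
    rw [← K.mul _ _ (ct x hx) (ct y hy), hb _ (V₀.mul_mem hx hy) z hz, hb x hx z hz, hb y hy z hz, q0.bil x hx y hy z hz]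
  · rintro _ ⟨x, hx, rfl⟩ h1
    obtain ⟨y, hy, h2⟩ := q0.nondeg x hx fun e => h1 (e ▸ K.one)
    exact ⟨_, ⟨y, hy, rfl⟩, by rw [hb y hy x hx, h2]⟩
  · have h1 : gs V₀ Γ.kap = gs V (qv (P a)) := by
      refine Finset.sum_bij (fun x _ => P x) (fun x hx => mem_fs.2 ⟨x, mem_fs.1 hx, rfl⟩)
        (fun x hx y hy e => inj x (mem_fs.1 hx) y (mem_fs.1 hy) e) (fun y hy => ?_) fun x hx => ?_
      · obtain ⟨x, hx, e⟩ := mem_fs.1 hy
        exact ⟨x, mem_fs.2 hx, e⟩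
      · rw [hq x (mem_fs.1 hx)]
    omega
  · rintro _ ⟨x, hx, rfl⟩
    rw [← K.mul _ _ (ct x hx) hat, ← K.mul _ _ hat (ct x hx), q.comm x ((m0 x).1 hx).1 a haO]
  · rintro g hg' _ ⟨x, hx, rfl⟩
    obtain ⟨k, hk, rfl⟩ := K.surj g
    have h1 := K.eq_or (cm_conj hk hat) hat (by rw [K.conj hk hat, hg', mul_inv_cancel_right])
    obtain ⟨x1, x2, x3⟩ := (m0 x).1 hx
    have h2 := M.norm_ark hO htO haO pa pat hk h1 x1
    have pc : ∀ y, pol Γ.kap (k * x * k⁻¹) (k * y * k⁻¹) = pol Γ.kap x y := fun y => by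
      unfold pol
      rw [show k * x * k⁻¹ * (k * y * k⁻¹) = k * (x * y) * k⁻¹ by group, kap_conj M.Ba, kap_conj M.Ba, kap_conj M.Ba]
    have h3 : pol Γ.kap (k * x * k⁻¹) t = 0 := by
      have h4 := pc t
      rwa [hk, mul_inv_cancel_right, x2] at h4
    refine ⟨_, (m0 _).2 ⟨h2, h3, ?_⟩, K.conj hk (ct x hx)⟩
    have h4 := pc a
    rcases h1 with h1 | h1
    · rwa [h1, x3] at h4
    · rwa [h1, x3, q.bil' h2 haO htO, h3, add_zero] at h4
  · rintro _ ⟨x, hx, rfl⟩ h1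
    exact M.conj_zB K (iv x hx fun e => h1 (e ▸ K.one)) (kt x hx)
  · rintro _ ⟨x, hx, rfl⟩ h1
    exact cu x hx (by rw [← hq x hx, h1])
  · rintro _ ⟨x, hx, rfl⟩ h1
    exact cT x hx (by rw [← hq x hx, h1])
  · intro x hx
    have h1 := iq 1 (by rw [one_mul, inv_one, mul_one]; exact ⟨v, hv0, ev⟩)
      (by rw [one_mul, inv_one, mul_one, ← ev, hq v hv0, v1]) x hx
    simpa only [one_mul, inv_one, mul_one] using h1
  · intro y
    constructor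
    · rintro ⟨h, rfl, h1⟩
      obtain ⟨w, hw, w1, w2, ew⟩ := M.exists_pt K (isConj_iff.2 ⟨h, rfl⟩)
      have h2 := ptm w hw w1 w2 ((M.inQ_conj_iff K hw w1 ew.symm hat).1 h1)
      exact ⟨⟨w, h2, ew⟩, ew ▸ K.iv_ne hw, by rw [← ew, hq w h2, w1]⟩
    · rintro ⟨⟨w, hw, rfl⟩, h1, h2⟩
      have i := iv w hw fun e => h1 (e ▸ K.one)
      rw [hq w hw] at h2
      obtain ⟨h, e⟩ := isConj_iff.1 (M.conj_zB K i (kt w hw))
      refine ⟨h, e, (M.inQ_conj_iff K i h2 e hat).2 ?_⟩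
      rw [M.A.bet_iff O hO w ((m0 w).1 hw).1 (pt_of_kap h2 i.ne) a haO]
      exact (q.pol_comm haO ((m0 w).1 hw).1).trans ((m0 w).1 hw).2.2
  · intro x hx hc hT
    obtain ⟨w, hw, w1, w2, rfl⟩ := M.exists_pt K hx
    have c := cm_mul hw.comm hat
    have e := K.mul _ _ hw.comm hat
    have h1 : w * a * (w * a) = 1 := M.sq_of_card K c (by
      rw [e, mul_assoc, ← mul_assoc (P a), ← hc, mul_assoc, hu, mul_one, K.iv_sq hw])
      (by rw [e, card_cent_conj hT, card_cent_tB]; norm_num)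
    have h2 : w * a = a * w := by
      calc w * a = (w * a)⁻¹ := eq_inv_of_mul_eq_one_left h1
        _ = a * w := by rw [mul_inv_rev, inv_eq_of_mul_eq_one_left hw.sq, inv_eq_of_mul_eq_one_left ia.sq]
    have h3 := tr_isConj hT
    rw [tr_tB, ← e] at h3
    have i := K.iv_of c h1 (ne_one_of_tr (by rw [h3]; norm_num))
    have h4 : Γ.kap (w * a) = 1 ∧ Γ.kap (w * a * t) = 1 := by
      rcases M.cls' i with h | h | h | h
      · exact ⟨h.1, h.2.1⟩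
      · rw [tr_isConj (M.conj_zB K i (by rw [h.1, h.2.1]; rfl)), tr_zB] at h3; norm_num at h3
      · rw [tr_isConj (M.conj_zB K i (by rw [h.1, h.2.1]; rfl)), tr_zB] at h3; norm_num at h3
      · rw [tr_isConj (M.conj_uB K i h.1 h.2.1), tr_uB] at h3; norm_num at h3
    have hw' := pt_of_kap w1 hw.ne
    have h5 := M.mem_ark_A hO htO haO pa pat hw' (M.t_mem_QQ hw w1 w2) h2 h4.1 h4.2
    have p1 : pol Γ.kap w t = 0 := by
      unfold pol
      rw [w2, w1, M.kt]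
      rfl
    have p2 : pol Γ.kap w a = 1 := by
      unfold pol
      rw [h4.1, w1, k1]
      rfl
    refine ⟨w * t, (m0 _).2 ⟨O.mul_mem h5 htO, ?_, ?_⟩, K.mul_t hw.comm⟩
    · rw [q.bil w h5 t htO t htO, p1, q.pol_self htO, add_zero]
    · rw [q.bil w h5 t htO a haO, p2, q.pol_comm htO haO, hp]
      rfl

end Cfsg.Agent.TAB.B.Geo
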