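import Cfsg.Agent.TAB.B.Geo.Fix
import Cfsg.Agent.H502.IF.BKey

/-!
# Traces of the elements of `Q` and the class 2D (helper1, TAB)
-/

set_option autoImplicit false
set_option maxRecDepth 100000

namespace Cfsg.Agent.TAB.B.Geo

open Cfsg
open Cfsg.Agent.Monster.VecSpace Cfsg.Agent.Monster.PauliBasic Cfsg.Agent.Monster.PauliClif
open Cfsg.Agent.BabyM Cfsg.Agent.BabyM.QAct Cfsg.Agent.BabyM.Conc Cfsg.Agent.BabyM.KTab
open Cfsg.Agent.H502.IFB.Moment Cfsg.Agent.H502.IFB.Key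
open Subgroup (centralizer mem_centralizer_singleton_iff)

theorem R_mem (x : Pauli 11) : Cd.R x ∈ Inst.M.Q := KLink.link.mem_Q.2 ⟨x, rfl⟩

/-- the Pauli group inside `BG` -/
noncomputable def RB : Pauli 11 →* BG :=
  Cd.R.codRestrict Inst.M.G fun x => Instance.all.C_le_G (Instance.all.grp.Q_le (R_mem x))

theorem RB_val (x : Pauli 11) : (RB x : V ≃ₗ[ℚ] V) = Cd.R x := rfl

theorem RB_inj : Function.Injective RB := fun _ _ h => Cd.R_injective (congrArg Subtype.val h)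

theorem inQ_iff {g : BG} : InQ g ↔ ∃ x, RB x = g :=
  KLink.link.mem_Q.trans ⟨fun ⟨x, h⟩ => ⟨x, Subtype.ext h⟩, fun ⟨x, h⟩ => ⟨x, congrArg Subtype.val h⟩⟩

theorem RB_z : RB (Pauli.z 11) = zB := Subtype.ext KLink.link.z_eq.symm

theorem RB_t : RB (Cd.c Inst.laneB) = tB := Subtype.ext KLink.link.t₀_eq.symm

theorem tr_diag (g : BG) : tr g = ∑ i : Lane U, (g : V ≃ₗ[ℚ] V) (Pi.single i 1) i := by
  classical
  rw [tr_def, LinearMap.trace_eq_matrix_trace ℚ (Pi.basisFun ℚ (Lane U)), Matrix.trace]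
  refine Finset.sum_congr rfl fun i _ => ?_
  rw [Matrix.diag_apply, LinearMap.toMatrix_apply, Pi.basisFun_apply, Pi.basisFun_repr]
  rfl

open Classical in
theorem tr_RB_sum {x : Pauli 11} (hx : ab x ≠ 0) :
    tr (RB x) = ∑ i : Lane U, if Cd.isq i then 0 else sg ℚ (Pauli.form x (Cd.c i)) := by
  obtain ⟨y, hy⟩ := exists_form_eq_one hx
  have h1 : y * x * y⁻¹ = Pauli.z 11 * x := by rw [Pauli.conj_eq, hy, Pauli.z_mul]
  have h2 : tr (RB (Pauli.z 11 * x)) = tr (RB x) := by rw [← h1, map_mul, map_mul, map_inv, tr_conj]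
  have h3 : tr (RB x) + tr (RB (Pauli.z 11 * x)) =
      2 * ∑ i : Lane U, if Cd.isq i then 0 else sg ℚ (Pauli.form x (Cd.c i)) := by
    rw [tr_diag, tr_diag, ← Finset.sum_add_distrib, Finset.mul_sum]
    refine Finset.sum_congr rfl fun i _ => ?_
    rw [RB_val, RB_val, map_mul, LinearEquiv.mul_apply]
    by_cases hi : Cd.isq i
    · rw [if_pos hi, Cd.R_z_q _ hi]
      ring
    · rw [if_neg hi, Cd.R_z_nq _ hi, Cd.R_nq x _ hi, Pi.single_eq_same]
      ring
  linarith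

open Classical in
theorem tr_RB_add {x : Pauli 11} (hx : ab x ≠ 0) :
    tr (RB x) = (Finset.univ.filter Cd.isU).card + (SS O₁ (ab x) : ℚ) := by
  have h1 : (SS O₁ (ab x) : ℚ) = ∑ i ∈ Finset.univ.filter Cd.isX, sg ℚ (Pauli.form x (Cd.c i)) := by
    unfold SS
    rw [Int.cast_sum]
    symm
    refine Finset.sum_bij (fun i _ => ab (Cd.c i)) (fun i hi => mem_O₁.2 ⟨i, (Finset.mem_filter.1 hi).2, rfl⟩)
      (fun i hi j hj e => KGood.c_inj i j (Finset.mem_filter.1 hi).2 (Finset.mem_filter.1 hj).2 e) (fun w hw => ?_)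
      fun i _ => ?_
    · obtain ⟨i, hi, rfl⟩ := mem_O₁.1 hw
      exact ⟨i, Finset.mem_filter.2 ⟨Finset.mem_univ _, hi⟩, rfl⟩
    · rw [form_comm, form_fm]
      unfold sg
      split_ifs <;> simp
  rw [h1, tr_RB_sum hx, Finset.card_filter, Nat.cast_sum, Finset.sum_filter, ← Finset.sum_add_distrib]
  refine Finset.sum_congr rfl fun i _ => ?_
  rcases Cd.cases i with h | h | h
  · rw [if_pos h, if_neg fun h' : Cd.isU i => h'.1 h, if_neg fun h' : Cd.isX i => h'.1 h]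
    simp
  · rw [if_neg h.1, if_neg fun h' : Cd.isU i => h.2 h'.2, if_pos h]
    simp
  · have h2 : Pauli.form x (Cd.c i) = 0 := by
      rw [form_congr x (w' := 1) h.2, form_comm, form_one_left]
    rw [if_neg h.1, if_pos h, if_neg (Cd.not_isX_of_isU h), h2, sg_zero]
    simp

/-- **The trace of a noncentral element of `Q`.** -/
theorem tr_RB {x : Pauli 11} (hx : ab x ≠ 0) : tr (RB x) = 23 + (SS O₁ (ab x) : ℚ) := by
  have h1 := tr_RB_add KLink.link.i₀_X.2
  rw [RB_t, tr_tB, s1O (ab (Cd.c Inst.laneB)) (mem_O₁.2 ⟨_, KLink.link.i₀_X, rfl⟩)] at h1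
  rw [tr_RB_add hx]
  push_cast at h1
  linarith

theorem card_sing : (Finset.univ.filter fun w : VV 11 => qf w = 0).card = 2098176 := by
  have h1 := sum_qf (n := 11)
  have h2 : ∀ w : VV 11, sg ℤ (qf w) = 2 * (if qf w = 0 then 1 else 0) - 1 := fun w => by
    unfold sg
    split_ifs <;> norm_num
  rw [Finset.sum_congr rfl fun w _ => h2 w, Finset.sum_sub_distrib, ← Finset.mul_sum, Finset.sum_boole, Finset.sum_const,
    Finset.card_univ, Fintype.card_prod, Fintype.card_fun, ZMod.card, Fintype.card_fin] at h1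
  simp only [nsmul_eq_mul, mul_one] at h1
  push_cast at h1
  omega

/-- the involutions of `Q` of trace 19 -/
theorem card_Q_19 : 4098600 ≤ Nat.card {u : BG // InQ u ∧ u * u = 1 ∧ tr u = 19} := by
  classical
  let S := (Finset.univ.filter fun w : VV 11 => qf w = 0) \ (insert 0 (O₁ ∪ O₂))
  have h1 : 2049300 ≤ S.card := by
    have h2 := Finset.le_card_sdiff (insert 0 (O₁ ∪ O₂)) (Finset.univ.filter fun w : VV 11 => qf w = 0)
    have h3 := Finset.card_insert_le 0 (O₁ ∪ O₂)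
    have h4 := Finset.card_union_le O₁ O₂
    rw [card_O₁, card_O₂] at h4
    rw [card_sing] at h2
    exact le_trans (by omega) h2
  have h2 : Nat.card (ZMod 2 × S) = 2 * S.card := by rw [Nat.card_prod, Nat.card_zmod, Nat.card_eq_finsetCard]
  have m : ∀ w : S, qf w.1 = 0 ∧ w.1 ≠ 0 ∧ w.1 ∉ O₁ ∧ w.1 ∉ O₂ := fun w => by
    have h := w.2
    simp only [S, Finset.mem_sdiff, Finset.mem_filter, Finset.mem_univ, true_and, Finset.mem_insert, Finset.mem_union,
      not_or] at h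
    exact h
  refine le_trans (by omega) (h2 ▸ Nat.card_le_card_of_injective (fun p : ZMod 2 × S =>
    (⟨RB ⟨p.1, p.2.1.1, p.2.1.2⟩, inQ_iff.2 ⟨_, rfl⟩, ?_, ?_⟩ : {u : BG // InQ u ∧ u * u = 1 ∧ tr u = 19})) ?_)
  · rw [← map_mul, Pauli.sq_eq, ← map_one RB]
    exact congrArg RB (Pauli.ext (m p.2).1 rfl rfl)
  · rw [tr_RB (x := ⟨p.1, p.2.1.1, p.2.1.2⟩) (m p.2).2.1, show ab (⟨p.1, p.2.1.1, p.2.1.2⟩ : Pauli 11) = p.2.1 from rfl,
      SS_other card_O₁ card_O₂ q1O q2O z1O z2O s1O s2O (m p.2).1 (m p.2).2.1 (m p.2).2.2.1 (m p.2).2.2.2]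
    norm_num
  · intro p p' e
    have h3 := RB_inj (congrArg Subtype.val e)
    exact Prod.ext (congrArg Pauli.s h3) (Subtype.ext (congrArg ab h3))

theorem XU.conj {u y : BG} (h : XU u y) (k : BG) : XU (k * u * k⁻¹) (k * y * k⁻¹) := by
  obtain ⟨g, rfl, h⟩ := h
  refine ⟨k * g, by group, ?_⟩
  rwa [show (k * g)⁻¹ * (k * u * k⁻¹) * (k * g) = g⁻¹ * u * g by group]

theorem card_class_zB : Nat.card {y : BG // IsConj zB y} = 11707448673375 := by
  have h := Eng.card_class zB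
  rw [card_cent_zB, card_B] at h
  exact Nat.eq_of_mul_eq_mul_right (m := 2 ^ 23 * 42305421312000) (by norm_num) (by rw [h]; norm_num)

theorem card_class_uB : 355438141723665000 ≤ Nat.card {u : BG // IsConj uB u} := by
  obtain ⟨V, H⟩ := geo uB_sq inQ_uB tr_uB
  choose h hh using fun y : {y : BG // IsConj zB y} => isConj_iff.1 y.2
  choose k hk using fun u : {u : BG // IsConj uB u} => isConj_iff.1 u.2
  let f : {y : BG // IsConj zB y} × {u : BG // InQ u ∧ u * u = 1 ∧ tr u = 19} → {u : BG // IsConj uB u} := fun p =>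
    ⟨h p.1 * p.2 * (h p.1)⁻¹, (p.2.2.1.conj_uB p.2.2.2.1 p.2.2.2.2).trans (isConj_iff.2 ⟨_, rfl⟩)⟩
  have h1 := Nat.card_le_card_of_injective (fun p => ((f p, ⟨(k (f p))⁻¹ * p.1 * (k (f p))⁻¹⁻¹, by
    have h2 : XU (f p) p.1 := ⟨h p.1, hh p.1, by
      show InQ ((h p.1)⁻¹ * (h p.1 * p.2 * (h p.1)⁻¹) * h p.1)
      rw [show (h p.1)⁻¹ * (h p.1 * p.2 * (h p.1)⁻¹) * h p.1 = p.2 by group]
      exact p.2.2.1⟩
    have h3 := h2.conj (k (f p))⁻¹
    rwa [← hk (f p), show (k (f p))⁻¹ * (k (f p) * uB * (k (f p))⁻¹) * (k (f p))⁻¹⁻¹ = uB by group] at h3⟩) :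
      {u : BG // IsConj uB u} × {y : BG // XU uB y})) fun p p' e => by
    have e1 : f p = f p' := congrArg Prod.fst e
    have e2 : (k (f p))⁻¹ * p.1 * (k (f p))⁻¹⁻¹ = (k (f p'))⁻¹ * p'.1 * (k (f p'))⁻¹⁻¹ :=
      congrArg (fun q : {u : BG // IsConj uB u} × {y : BG // XU uB y} => q.2.1) e
    rw [e1] at e2
    have e3 : p.1 = p'.1 := Subtype.ext (mul_left_cancel (mul_right_cancel e2))
    have e4 : h p.1 * p.2 * (h p.1)⁻¹ = h p'.1 * p'.2 * (h p'.1)⁻¹ := congrArg Subtype.val e1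
    rw [e3] at e4
    exact Prod.ext e3 (Subtype.ext (mul_left_cancel (mul_right_cancel e4)))
  rw [Nat.card_prod, Nat.card_prod, card_class_zB, H.card_XU] at h1
  have h2 := card_Q_19
  omega

theorem card_cent_uB : Nat.card (centralizer ({uB} : Set BG)) ≤ 11689182992793600 := by
  have h := Eng.card_class uB
  have h1 := Nat.mul_le_mul_right (Nat.card (centralizer ({uB} : Set BG))) card_class_uB
  rw [h, card_B] at h1
  omega

/-- **The strong box of 2D.** -/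
theorem boxC_2D : BoxCB 4 :=
  Eng.BoxC.of_le (x := uB) ((tyB_iff sg_2D _).2 ⟨orderOf_two uB_sq (by rw [tr_uB]; norm_num), by simp [tr_uB]⟩)
    card_cent_uB (by rw [cnt_2D, card_B])

/-- the centraliser of an involution -/
theorem inv_cent {x : BG} (h : x * x = 1) : x = 1 ∨ IsConj tB x ∨ IsConj zB x ∨
    Nat.card (centralizer ({x} : Set BG)) ≤ 26489012826931200 := by
  rcases inv_cases h with h1 | h1 | h1 | h1 | h1
  · exact Or.inl h1
  · exact Or.inr (Or.inl h1)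
  · exact Or.inr (Or.inr (Or.inl h1))
  · refine Or.inr (Or.inr (Or.inr ?_))
    rw [card_cent_conj h1]
    exact card_cent_uB.trans (by norm_num)
  · exact Or.inr (Or.inr (Or.inr h1))

end Cfsg.Agent.TAB.B.Geo
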